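import Groth.Agent.Dual3Lib.DualizingModule
import Groth.Agent.ProperTraceLib.Basic
import Groth.Agent.SurfNumLib.Basic
import Groth.Agent.PushLinLib.HH
import Groth.Prelude.Def_Canon

/-!
# r-dualizing pairs of proper schemes
-/

set_option autoImplicit false
set_option linter.style.haveILetI false
set_option backward.isDefEq.respectTransparency false
set_option backward.isDefEq.respectTransparency.types false
set_option maxHeartbeats 1000000
set_option synthInstance.maxHeartbeats 200000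

universe u

open CategoryTheory CategoryTheory.Limits AlgebraicGeometry

noncomputable section

namespace Groth.Agent.DualPairLib

/-- From the `∃!` form of duality to `Canon.IsRDualOver`. -/
theorem isRDualOver_of_existsUnique {A : Type u} [CommRing A] {X : Scheme.{u}} [X.Over (Spec (CommRingCat.of A))]
    {r : ℕ} {ω : X.Modules} (hω : Coh.IsQCoh ω) (t : Coh.HH X ω r →ₗ[A] A)
    (h : ∀ F : X.Modules, Coh.IsQCoh F → ∀ g : Coh.HH X F r →ₗ[A] A, ∃! φ : F ⟶ ω,
      ∀ x : Coh.HH X F r, g x = t (Sheaf.H.map ((SheafOfModules.toSheaf X.ringCatSheaf).map φ) r x)) :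
    Canon.IsRDualOver A X r ω t := by
  refine ⟨hω, fun F hF => ⟨fun φ φ' he => ?_, fun g => ?_⟩⟩
  · exact (h F hF (Canon.dualityMap A X r ω t F φ)).unique (fun x => rfl)
      (fun x => LinearMap.congr_fun he x)
  · obtain ⟨φ, hφ, -⟩ := h F hF g
    exact ⟨φ, LinearMap.ext fun x => (hφ x).symm⟩

open DerivedCategory in
attribute [local instance] HasDerivedCategory.standard in
/-- A proper scheme of dimension `≤ r` over a field has a coherent `r`-dualizing pair. -/
theorem exists_dual_field (k : Type u) [Field k] (X : Scheme.{u}) [X.Over (Spec (CommRingCat.of k))]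
    [IsProper (X ↘ Spec (CommRingCat.of k))] (d : ℕ) (hd : topologicalKrullDim X ≤ (d : WithBot ℕ∞)) :
    ∃ (ω : X.Modules) (t : Coh.HH X ω d →ₗ[k] k), Coh.IsCoh ω ∧ Canon.IsRDualOver k X d ω t := by
  haveI : ∀ (R : CommRingCat.{u}), PreservesFiniteLimits (tilde.functor R) := fun R =>
    HensSchLib.tilde_preservesFiniteLimits R
  haveI : ∀ (U V : Scheme.{u}) (j : U ⟶ V) [IsOpenImmersion j],
      PreservesFiniteLimits (Scheme.Modules.restrictFunctor j) := fun U V j _ => inferInstance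
  let f := X ↘ Spec (CommRingCat.of k)
  haveI : IsLocallyNoetherian X := LocallyOfFiniteType.isLocallyNoetherian f
  haveI : CompactSpace X := QuasiCompact.compactSpace_of_compactSpace f
  haveI : IsNoetherian X := ⟨⟩
  haveI : DCoh.HasRpush f := DCohRestrLib.hasRpush f
  have hf : DCoh.RpushPreservesQCoh f := fun K hK => QRlimLib.isQCohD_rpush f hK
  haveI := Groth.Agent.S1766.result X (Spec (CommRingCat.of k)) f hf
  let O : DCoh.DQCoh (Spec (CommRingCat.of k)) :=
    ⟨DCoh.inD _ (Coh.structureModule _), PerfBaseLib.isQCohD_inD _ QCohLib.isQCoh_unit⟩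
  let F := DCoh.RpushQ f hf
  let adj := Adjunction.ofIsLeftAdjoint F
  obtain ⟨hdual, hzero, -⟩ := Dual3Lib.amplitude f hf _ adj O (Iso.refl _) d hd
  have hge : ((F.rightAdjoint).obj O).obj.IsGE (-(d : ℤ)) :=
    (isGE_iff _ _).2 fun i hi => hzero i (Or.inl hi)
  obtain ⟨t, ht⟩ := Dual3Lib.exists_trace hf _ adj d 0 (-(d : ℤ)) (by omega) O (ω := Dual.inD k k)
    Dual3Lib.inDSpecIso.symm hge
  let β : (homologyFunctor (ModuleCat.{u} k) 0).obj (Dual.inD k k) ≃ₗ[k] k :=
    ((singleFunctorCompHomologyFunctorIso (ModuleCat.{u} k) 0).app (ModuleCat.of k k)).toLinearEquiv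
  refine ⟨_, β.toLinearMap.comp t, Dual3Lib.isCohD_of_isDualizingSch hdual (-(d : ℤ)),
    isRDualOver_of_existsUnique ((F.rightAdjoint.obj O).property _) _ fun G hG g => ?_⟩
  obtain ⟨φ, hφ, huniq⟩ := ht G hG (fun j hj => CurvLib.subsingleton_HH_of_dim_le G hd j hj)
    (β.symm.toLinearMap.comp g)
  exact ⟨φ, fun x => β.symm_apply_eq.1 (hφ x), fun φ' hφ' => huniq φ' fun x => β.symm_apply_eq.2 (hφ' x)⟩


section Push

open CohBCLib

variable {A : Type u} [CommRing A] {X Y : Scheme.{u}} [X.Over (Spec (CommRingCat.of A))]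
  [Y.Over (Spec (CommRingCat.of A))]

theorem cechPushIso_natural {p : X ⟶ Spec (CommRingCat.of A)} {q : Y ⟶ Spec (CommRingCat.of A)} (g : X ⟶ Y)
    (hg : g ≫ q = p) {G G' : X.Modules} (φ : G ⟶ G') {ι : Type u} (U : ι → Y.Opens) :
    (cechA q U).map ((Coh.push g).map φ) ≫ (PushLinLib.cechPushIso g G' U hg).hom =
      (PushLinLib.cechPushIso g G U hg).hom ≫ (cechA p (preU g U)).map φ := by
  refine HomologicalComplex.hom_ext _ _ fun n => ModuleCat.hom_ext (LinearMap.ext fun c => funext fun J => ?_)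
  exact (ConcreteCategory.congr_hom ((Scheme.Modules.Hom.mapPresheaf φ).naturality
    (homOfLE (PushLinLib.capX_eq g U J).le).op) _).symm

/-- `H^n(X, G) ≅ H^n(Y, g_* G)` for `g` affine, linearly over the base and naturally in `G`. -/
theorem exists_pushEquiv (g : X ⟶ Y) [IsAffineHom g]
    (hg : g ≫ (Y ↘ Spec (CommRingCat.of A)) = X ↘ Spec (CommRingCat.of A))
    [QuasiCompact (Y ↘ Spec (CommRingCat.of A))] [IsSeparated (Y ↘ Spec (CommRingCat.of A))] (n : ℕ) :
    ∃ e : ∀ G : X.Modules, Coh.IsQCoh G → (Coh.HH X G n ≃ₗ[A] Coh.HH Y ((Coh.push g).obj G) n),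
      ∀ (G G' : X.Modules) (hG : Coh.IsQCoh G) (hG' : Coh.IsQCoh G') (φ : G ⟶ G') (x : Coh.HH X G n),
        e G' hG' (Canon.HHlin A φ n x) = Canon.HHlin A ((Coh.push g).map φ) n (e G hG x) := by
  let p := X ↘ Spec (CommRingCat.of A)
  let q := Y ↘ Spec (CommRingCat.of A)
  obtain ⟨ι, _, U, hcov, haff, -⟩ := exists_good_cover q
  have hq : ∀ G : X.Modules, Coh.IsQCoh G → Coh.IsQCoh ((Coh.push g).obj G) := fun G hG =>
    haveI := hG; QCohLib.isQCoh_pushforward g G
  have haff' : ∀ (n : ℕ) (J : Fin (n + 1) → ι), IsAffineOpen (capX (preU g U) J) := fun n J => by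
    rw [PushLinLib.capX_eq g U J]; exact (haff n J).preimage g
  refine ⟨fun G hG => haveI := hG; haveI := hq G hG;
    ((hCmp p (preU g U) haff' (iSup_preU U hcov) n G).symm ≪≫
      ((HomologicalComplex.homologyFunctor _ _ n).mapIso (PushLinLib.cechPushIso g G U hg)).symm ≪≫
      hCmp q U haff hcov n ((Coh.push g).obj G)).toLinearEquiv, fun G G' hG hG' φ x => ?_⟩
  haveI := hG; haveI := hG'; haveI := hq G hG; haveI := hq G' hG'
  let a := fun (G : X.Modules) (hG : Coh.IsQCoh G) =>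
    haveI := hG; hCmpAdd p (preU g U) haff' (iSup_preU U hcov) n G
  obtain ⟨y, rfl⟩ := (a G hG).surjective x
  have h1 : Canon.HHlin A φ n (a G hG y) = a G' hG' (HomologicalComplex.homologyMap ((cechA p (preU g U)).map φ) n y) :=
    (hCmp_natural p (preU g U) haff' (iSup_preU U hcov) n φ y).symm
  rw [h1]
  change hCmpAdd q U haff hcov n _ (HomologicalComplex.homologyMap (PushLinLib.cechPushIso g G' U hg).inv n
      ((a G' hG').symm (a G' hG' _))) =
    Canon.HHlin A ((Coh.push g).map φ) n (hCmpAdd q U haff hcov n _ (HomologicalComplex.homologyMap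
      (PushLinLib.cechPushIso g G U hg).inv n ((a G hG).symm (a G hG y))))
  rw [AddEquiv.symm_apply_apply, AddEquiv.symm_apply_apply]
  refine Eq.trans ?_ (hCmp_natural q U haff hcov n ((Coh.push g).map φ) _)
  congr 1
  rw [← ModuleCat.comp_apply, ← ModuleCat.comp_apply, ← HomologicalComplex.homologyMap_comp,
    ← HomologicalComplex.homologyMap_comp]
  have hnat : (cechA p (preU g U)).map φ ≫ (PushLinLib.cechPushIso g G' U hg).inv =
      (PushLinLib.cechPushIso g G U hg).inv ≫ (cechA q U).map ((Coh.push g).map φ) := by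
    rw [Iso.comp_inv_eq, Category.assoc, cechPushIso_natural g hg φ U, Iso.inv_hom_id_assoc]
  rw [hnat]

/-- Finite (or affine) pushforward of dualizing pairs. -/
theorem exists_trace_push (g : X ⟶ Y) [IsAffineHom g]
    (hg : g ≫ (Y ↘ Spec (CommRingCat.of A)) = X ↘ Spec (CommRingCat.of A))
    [QuasiCompact (Y ↘ Spec (CommRingCat.of A))] [IsSeparated (Y ↘ Spec (CommRingCat.of A))] (r : ℕ)
    (ωY : Y.Modules) (trY : Coh.HH Y ωY r →ₗ[A] A) (hY : Canon.IsRDualOver A Y r ωY trY)
    (ωX : X.Modules) (hωX : Coh.IsQCoh ωX) (τ : (Coh.push g).obj ωX ⟶ ωY)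
    (huniv : ∀ F : X.Modules, Coh.IsQCoh F →
      Function.Bijective (fun φ : F ⟶ ωX => (Coh.push g).map φ ≫ τ)) :
    ∃ trX : Coh.HH X ωX r →ₗ[A] A, Canon.IsRDualOver A X r ωX trX := by
  obtain ⟨e, he⟩ := exists_pushEquiv g hg r
  refine ⟨(trY ∘ₗ Canon.HHlin A τ r) ∘ₗ (e ωX hωX).toLinearMap, hωX, fun F hF => ?_⟩
  have key : Canon.dualityMap A X r ωX ((trY ∘ₗ Canon.HHlin A τ r) ∘ₗ (e ωX hωX).toLinearMap) F =
      (fun l => l ∘ₗ (e F hF).toLinearMap) ∘ Canon.dualityMap A Y r ωY trY ((Coh.push g).obj F) ∘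
        (fun φ : F ⟶ ωX => (Coh.push g).map φ ≫ τ) := by
    funext φ
    refine LinearMap.ext fun x => congrArg trY ?_
    refine (congrArg (Canon.HHlin A τ r) (he F ωX hF hωX φ x)).trans ?_
    change Sheaf.H.map _ r (Sheaf.H.map _ r _) = Sheaf.H.map _ r _
    rw [← Sheaf.H.map_comp_apply, ← Functor.map_comp]
    rfl
  rw [key]
  refine Function.Bijective.comp ?_ (Function.Bijective.comp
    (hY.2 _ (haveI := hF; QCohLib.isQCoh_pushforward g F)) (huniv F hF))
  exact ⟨fun l l' h => LinearMap.ext fun y => by simpa using LinearMap.congr_fun h ((e F hF).symm y),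
    fun l => ⟨l ∘ₗ (e F hF).symm.toLinearMap, LinearMap.ext fun x => by simp⟩⟩

end Push

end Groth.Agent.DualPairLib
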