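import Groth.Agent.DualPairLib.Main
import Groth.Agent.AmpleAffLib.Gen
import Groth.Agent.AmpleDevLib.Pull
import Groth.Agent.FormalCohLib.ProjAmple
import Groth.Agent.PicPnLib.Twist
import Groth.Agent.FibVALib.Core

/-!
# Dualizing pairs are detected on twists
-/

set_option autoImplicit false
set_option linter.style.haveILetI false
set_option backward.isDefEq.respectTransparency false
set_option backward.isDefEq.respectTransparency.types false
set_option maxHeartbeats 1000000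
set_option synthInstance.maxHeartbeats 200000

universe u

open CategoryTheory CategoryTheory.Limits AlgebraicGeometry

noncomputable section

namespace Groth.Agent.DualPairLib

variable {A : Type u} [CommRing A] {X : Scheme.{u}} {n : ℕ} (ι : X ⟶ CohB1.ProjSpace n A)

/-- `ι^* O(m)`. -/
abbrev pullTwist (m : ℤ) : X.Modules := (Scheme.Modules.pullback ι).obj (Twist.twistProjSpace n A m)

theorem nonempty_pullTwist_add (a b : ℤ) :
    Nonempty (CohB1.tensorMod (pullTwist ι a) (pullTwist ι b) ≅ pullTwist ι (a + b)) := by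
  obtain ⟨e'⟩ := PicPnLib.twist_add n A a b
  haveI := KFlatLib.isIso_pullθ ι (Twist.twistProjSpace n A a) (Twist.twistProjSpace n A b)
  exact ⟨(@asIso _ _ _ _ (KFlatLib.pullθ ι (Twist.twistProjSpace n A a) (Twist.twistProjSpace n A b)) this).symm ≪≫
    (Scheme.Modules.pullback ι).mapIso e'⟩

theorem nonempty_pullTwist_zero : Nonempty (pullTwist ι 0 ≅ Coh.structureModule X) := by
  obtain ⟨e⟩ := PicPnLib.twist_zero n A
  exact ⟨(Scheme.Modules.pullback ι).mapIso e ≪≫ KFlatLib.pullUnitIso ι⟩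

theorem nonempty_tensorPow_pullTwist (d : ℤ) : ∀ m : ℕ,
    Nonempty (CohB1.tensorPow (pullTwist ι d) m ≅ pullTwist ι ((m : ℤ) * d))
  | 0 => by
    obtain ⟨e⟩ := nonempty_pullTwist_zero ι
    exact ⟨e.symm ≪≫ eqToIso (by simp)⟩
  | m + 1 => by
    obtain ⟨e⟩ := nonempty_tensorPow_pullTwist d m
    obtain ⟨f⟩ := nonempty_pullTwist_add ι ((m : ℤ) * d) d
    exact ⟨HilbPolyLib.congrLeft e _ ≪≫ f ≪≫ eqToIso (by push_cast; rw [add_mul, one_mul])⟩

variable [IsClosedImmersion ι]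

/-- Every quasi-coherent module on `X ⊆ ℙⁿ` is a quotient of a sum of `ι^* O(m)`'s. -/
theorem exists_epi_pullTwist (M : X.Modules) [Coh.IsQCoh M] (m₀ : ℤ) :
    ∃ (I : Type u) (m : I → ℤ) (π : (∐ fun a => pullTwist ι (m a)) ⟶ M), (∀ a, m a ≤ m₀) ∧ Epi π := by
  have hA : CohB1.IsAmple (pullTwist ι 1) :=
    AmpleDevLib.isAmple_pb ι (PicPnLib.twist_inv n A 1) (FormalCohLib.isAmple_twistProjSpace n A)
  haveI : CompactSpace X := hA.2.1
  haveI : QuasiSeparatedSpace X := by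
    haveI : IsSeparated (ι ≫ CohB1.ProjSpace.toSpec n A) := by
      haveI := FibVALib.isProper_toSpec n A
      infer_instance
    exact quasiSeparatedSpace_of_quasiSeparated (ι ≫ CohB1.ProjSpace.toSpec n A)
  choose d s hx ha using hA.2.2
  have hP : ∀ x, PicF.IsInvertible (CohB1.tensorPow (pullTwist ι 1) (d x + 1)) := fun x =>
    AmpleThLib.tensorPow_isInvertible hA.1 _
  obtain ⟨I, x, N, π, hN, hπ⟩ := AmpleAffLib.exists_epi_sigma hP (fun x => (s x).app ⊤ (1 : Γ(X, ⊤)))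
    (fun x => by rw [← AmpleThLib.genLocus_hom (hP x)]; exact hx x)
    (fun x => by rw [← AmpleThLib.genLocus_hom (hP x)]; exact ha x) M (-m₀).toNat
  obtain ⟨e1⟩ := nonempty_pullTwist_add ι 1 (-1)
  obtain ⟨e0⟩ := nonempty_pullTwist_zero ι
  have e : CohB1.tensorMod (pullTwist ι 1) (pullTwist ι (-1)) ≅ Coh.structureModule X :=
    e1 ≪≫ eqToIso (by norm_num) ≪≫ e0
  have hf : ∀ a, Nonempty (pullTwist ι ((((d (x a) + 1) * N a : ℕ) : ℤ) * (-1)) ≅
      MiscFlat6.dual (CohB1.tensorPow (CohB1.tensorPow (pullTwist ι 1) (d (x a) + 1)) (N a))) := fun a => by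
    obtain ⟨f⟩ := AmpleAffLib.nonempty_dual_powPow hA.1 e (d (x a) + 1) (N a)
    obtain ⟨g⟩ := nonempty_tensorPow_pullTwist ι (-1) ((d (x a) + 1) * N a)
    exact ⟨(f ≪≫ g).symm⟩
  let ψ := fun a => (hf a).some
  refine ⟨I, _, (Sigma.mapIso ψ).hom ≫ π, fun a => ?_, epi_comp _ _⟩
  have h1 : N a ≤ (d (x a) + 1) * N a := Nat.le_mul_of_pos_left _ (by omega)
  have h2 := hN a
  omega

/-- A morphism of quasi-coherent modules bijective on `Hom(ι^*O(m), -)` for all `m` is an isomorphism. -/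
theorem isIso_of_bijective_on_twists {M M' : X.Modules} [Coh.IsQCoh M] [Coh.IsQCoh M'] (φ : M ⟶ M') (m₀ : ℤ)
    (h : ∀ m : ℤ, m ≤ m₀ → Function.Bijective fun g : pullTwist ι m ⟶ M => g ≫ φ) : IsIso φ := by
  haveI : Epi φ := by
    obtain ⟨I, m, π, hm, hπ⟩ := exists_epi_pullTwist ι M' m₀
    choose g hg using fun a => (h (m a) (hm a)).2 (Sigma.ι (fun a => pullTwist ι (m a)) a ≫ π)
    have e : Sigma.desc g ≫ φ = π := Sigma.hom_ext _ _ fun a => by rw [Sigma.ι_desc_assoc]; exact hg a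
    exact @epi_of_epi _ _ _ _ _ (Sigma.desc g) φ (by rw [e]; exact hπ)
  haveI : Mono φ := by
    refine Preadditive.mono_of_kernel_zero ?_
    haveI := QCohLib.isQCoh_kernel φ
    obtain ⟨I, m, π, hm, hπ⟩ := exists_epi_pullTwist ι (kernel φ) m₀
    rw [← cancel_epi π, comp_zero]
    refine Sigma.hom_ext _ _ fun a => ?_
    rw [comp_zero]
    refine (h (m a) (hm a)).1 ?_
    simp [kernel.condition]
  exact isIso_of_mono_of_epi φ

variable [X.Over (Spec (CommRingCat.of A))] [IsNoetherianRing A]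

theorem isRDualOver_of_twists_le (hι : ι ≫ CohB1.ProjSpace.toSpec n A = X ↘ Spec (CommRingCat.of A)) (r : ℕ)
    (hfib : ∀ y, topologicalKrullDim ↥((X ↘ Spec (CommRingCat.of A)).fiber y) ≤ (r : WithBot ℕ∞))
    (ω : X.Modules) (hω : Coh.IsQCoh ω) (tr : Coh.HH X ω r →ₗ[A] A)
    (m₀ : ℤ) (h : ∀ m : ℤ, m ≤ m₀ → Function.Bijective (Canon.dualityMap A X r ω tr (pullTwist ι m))) :
    Canon.IsRDualOver A X r ω tr := by
  haveI : IsProper (X ↘ Spec (CommRingCat.of A)) := by
    haveI := FibVALib.isProper_toSpec n A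
    rw [← hι]; infer_instance
  obtain ⟨ω', hω', γ, hγ⟩ := ProperTraceLib.exists_dualizing_pair A X r hfib
  have hpair := isRDualOver_of_existsUnique hω' γ hγ
  obtain ⟨φ, hφ⟩ := (hpair.2 ω hω).2 tr
  have key : ∀ F : X.Modules, Canon.dualityMap A X r ω tr F =
      Canon.dualityMap A X r ω' γ F ∘ fun g : F ⟶ ω => g ≫ φ := fun F => by
    funext g
    refine LinearMap.ext fun y => ?_
    rw [← hφ]
    change γ (Sheaf.H.map _ r (Sheaf.H.map _ r y)) = γ (Sheaf.H.map _ r y)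
    rw [← Sheaf.H.map_comp_apply, ← Functor.map_comp]
  haveI := hω
  haveI := hω'
  haveI : IsIso φ := isIso_of_bijective_on_twists ι φ m₀ fun m hle => by
    have hm := h m hle
    rw [key] at hm
    haveI : Coh.IsQCoh (pullTwist ι m) :=
      TwistLib.isQCoh_of_isInvertible (AmpleDevLib.isInvertible_pb ι (PicPnLib.twist_inv n A m))
    exact (Function.Bijective.of_comp_iff' (hpair.2 _ inferInstance) _).1 hm
  refine ⟨hω, fun F hF => ?_⟩
  rw [key F]
  exact (hpair.2 F hF).comp ⟨fun g g' he => (cancel_mono φ).1 he, fun g => ⟨g ≫ inv φ, by simp⟩⟩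

theorem isRDualOver_of_twists (hι : ι ≫ CohB1.ProjSpace.toSpec n A = X ↘ Spec (CommRingCat.of A)) (r : ℕ)
    (hfib : ∀ y, topologicalKrullDim ↥((X ↘ Spec (CommRingCat.of A)).fiber y) ≤ (r : WithBot ℕ∞))
    (ω : X.Modules) (hω : Coh.IsQCoh ω) (tr : Coh.HH X ω r →ₗ[A] A)
    (h : ∀ m : ℤ, Function.Bijective (Canon.dualityMap A X r ω tr (pullTwist ι m))) :
    Canon.IsRDualOver A X r ω tr :=
  isRDualOver_of_twists_le ι hι r hfib ω hω tr 0 fun m _ => h m

end Groth.Agent.DualPairLib
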