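import Groth.Agent.DualPairLib.TopPair
import Groth.Agent.DualPairLib.Test
import Groth.Agent.PnDualLib.Pair
import Groth.Agent.VBP1Lib.Tensor
import Groth.Agent.DegPullLib.H0
import Groth.Agent.PicPnLib.BaseChange
import Groth.Agent.GenusZeroLib.PSpace

/-!
# The dualizing pair of projective space over a ring
-/

set_option autoImplicit false
set_option linter.style.haveILetI false
set_option backward.isDefEq.respectTransparency false
set_option backward.isDefEq.respectTransparency.types false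
set_option maxHeartbeats 1000000
universe u

open CategoryTheory CategoryTheory.Limits AlgebraicGeometry MvPolynomial Opposite
open GrTildeLib GradedCechLib PnTildeLib PnCohLib

noncomputable section

namespace Groth.Agent.DualPairLib

variable (n : ℕ) (R : Type u) [CommRing R]

theorem nonempty_iso_unit_of_zero (hn : n = 0) (m : ℤ) :
    Nonempty (OO n R m ≅ Coh.structureModule (CohB1.ProjSpace n R)) := by
  subst hn
  have htop : Proj.basicOpen (CohB1.polyGrading 0 R) (X 0) = ⊤ := top_le_iff.1 fun x _ => by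
    obtain ⟨i, hi⟩ := exists_mem_stdOpen (n := 0) (R := R) x
    rwa [Fin.fin_one_eq_zero i] at hi
  obtain ⟨σ, hσ⟩ : ∃ σ : Γ(Twist.twist (CohB1.polyGrading 0 R) m, (⊤ : (Proj (CohB1.polyGrading 0 R)).Opens)),
      AmpleLib.GenOn _ σ := by
    rw [← htop]
    exact ⟨_, (GrTildeLib.unitPow (𝒜 := CohB1.polyGrading 0 R) (GradedCechLib.X_mem 0 R 0) m).genOn⟩
  have := AmpleLib.isIso_unitHom σ hσ
  exact ⟨(@asIso _ _ _ _ _ this).symm⟩

/-- Zeroth cohomology of a nonnegative twist is free on the monomials. -/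
theorem nonempty_HH_zero (k : ℕ) :
    Nonempty (Coh.HH (CohB1.ProjSpace n R) (OO n R k) 0 ≃ₗ[R] (Deg n k →₀ R)) := by
  rcases Nat.eq_zero_or_pos n with rfl | hn
  · obtain ⟨e⟩ := exists_HH_top (n := 0) (R := R) k
    obtain ⟨i⟩ := nonempty_iso_unit_of_zero 0 R rfl (k : ℤ)
    obtain ⟨j⟩ := nonempty_iso_unit_of_zero 0 R rfl (-(((0 : ℕ) : ℤ) + 1 + k))
    suffices E : Coh.HH (CohB1.ProjSpace 0 R) (OO 0 R k) 0 ≃ₗ[R]
        Coh.HH (CohB1.ProjSpace 0 R) (OO 0 R (-(((0 : ℕ) : ℤ) + 1 + k))) 0 from ⟨E.trans e⟩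
    exact LinearEquiv.ofBijective (Canon.HHlin R (i ≪≫ j.symm).hom 0) ⟨fun x y h => by
      have h2 := congrArg (Canon.HHlin R (i ≪≫ j.symm).inv 0) h
      change Sheaf.H.map _ 0 (Sheaf.H.map _ 0 x) = Sheaf.H.map _ 0 (Sheaf.H.map _ 0 y) at h2
      simpa only [← Sheaf.H.map_comp_apply, ← Functor.map_comp, Iso.hom_inv_id, CategoryTheory.Functor.map_id,
        Sheaf.H.map_id_apply] using h2, fun y => ⟨Canon.HHlin R (i ≪≫ j.symm).inv 0 y, by
      change Sheaf.H.map _ 0 (Sheaf.H.map _ 0 y) = y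
      rw [← Sheaf.H.map_comp_apply, ← Functor.map_comp, Iso.inv_hom_id, CategoryTheory.Functor.map_id,
        Sheaf.H.map_id_apply]⟩⟩
  · exact exists_HH_zero hn k

theorem HHlin_add {M N : (CohB1.ProjSpace n R).Modules} (f g : M ⟶ N) (p : ℕ) :
    Canon.HHlin R (f + g) p = Canon.HHlin R f p + Canon.HHlin R g p := by
  refine LinearMap.ext fun x => ?_
  change Sheaf.H.map _ p x = Sheaf.H.map _ p x + Sheaf.H.map _ p x
  rw [Functor.map_add, Sheaf.H.map_apply, Sheaf.H.map_apply, Sheaf.H.map_apply, Abelian.Ext.mk₀_add,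
    Abelian.Ext.comp_add]

theorem secToHom_surjective {Y : Scheme.{u}} {A W : Y.Modules} (L N : Y.Modules)
    [(CurvLib.tensorLeft' L).IsEquivalence]
    (α : A ≅ (CurvLib.tensorLeft' L).obj (Coh.structureModule Y)) (β : (CurvLib.tensorLeft' L).obj N ≅ W) :
    Function.Surjective (PnDualLib.secToHom L N α.hom β.hom) := fun φ => by
  obtain ⟨f, hf⟩ := (CurvLib.tensorLeft' L).map_surjective (α.inv ≫ φ ≫ β.inv)
  refine ⟨f.app ⊤ (1 : Γ(Y, ⊤)), ?_⟩
  rw [PnDualLib.secToHom, ← AmpleThLib.unitHom_eq f, hf]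
  simp

theorem dualityMap_smulHom {M N : (CohB1.ProjSpace n R).Modules} (p : ℕ)
    (t : Coh.HH (CohB1.ProjSpace n R) N p →ₗ[R] R) (φ : M ⟶ N) (c : R) :
    Canon.dualityMap R (CohB1.ProjSpace n R) p N t M (φ ≫ StabLib.smulHom N (gl (n := n) c)) =
      c • Canon.dualityMap R (CohB1.ProjSpace n R) p N t M φ := by
  refine LinearMap.ext fun y => ?_
  change t (Sheaf.H.map _ p y) = c • t (Sheaf.H.map _ p y)
  rw [Functor.map_comp, Sheaf.H.map_comp_apply, ← map_smul]
  rfl

theorem exists_trace_bijective : ∃ t : Coh.HH (CohB1.ProjSpace n R) (OO n R (-((n : ℤ) + 1))) n ≃ₗ[R] R,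
    ∀ a : ℤ, a ≤ -((n : ℤ) + 1) → Function.Bijective
      (Canon.dualityMap R (CohB1.ProjSpace n R) n (OO n R (-((n : ℤ) + 1))) t.toLinearMap (OO n R a)) := by
  classical
  obtain ⟨t, ht⟩ := exists_trace_surjective n R
  refine ⟨t, fun a ha => ?_⟩
  have hsurj : Function.Surjective
      (Canon.dualityMap R (CohB1.ProjSpace n R) n (OO n R (-((n : ℤ) + 1))) t.toLinearMap (OO n R a)) := ht a ha
  refine ⟨?_, hsurj⟩
  obtain ⟨k, rfl⟩ : ∃ k : ℕ, a = -((n : ℤ) + 1 + k) := ⟨(-a - (n + 1)).toNat, by omega⟩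
  haveI : Finite (BS n (-((n : ℤ) + 1 + k))) := finite_BS n k
  haveI : Finite (Deg n k) := Finite.of_equiv _ (bsEquiv k).symm
  haveI : Fintype (Deg n k) := Fintype.ofFinite _
  let ω := OO n R (-((n : ℤ) + 1))
  let L := OO n R (-((n : ℤ) + 1 + k))
  let N := OO n R (k : ℤ)
  obtain ⟨ia⟩ := PicPnLib.twist_add n R (-((n : ℤ) + 1 + k)) k
  obtain ⟨i₀⟩ : Nonempty (CohB1.tensorMod L N ≅ ω) := ⟨ia ≪≫ eqToIso (by congr 1; ring)⟩
  let α : L ≅ CohB1.tensorMod L (Coh.structureModule _) := (PicPnLib.unitRight _).symm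
  haveI : (CurvLib.tensorLeft' L).IsEquivalence := by
    obtain ⟨e⟩ := PicPnLib.twist_add n R (-((n : ℤ) + 1 + k)) ((n : ℤ) + 1 + k)
    obtain ⟨z⟩ := PicPnLib.twist_zero n R
    exact VBP1Lib.isEquivalence_tensor (L := L) (M := OO n R ((n : ℤ) + 1 + k))
      (e ≪≫ eqToIso (by congr 1; ring) ≪≫ z)
  let Λ : Coh.HH (CohB1.ProjSpace n R) N 0 → (L ⟶ ω) := fun x =>
    PnDualLib.secToHom L N α.hom i₀.hom (DegPullLib.e0 N x)
  have hΛ : Function.Surjective Λ := (secToHom_surjective L N α i₀).comp (DegPullLib.e0 N).surjective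
  have hΛadd : ∀ x y, Λ (x + y) = Λ x + Λ y := fun x y =>
    (congrArg _ (map_add (DegPullLib.e0 N) x y)).trans (PnDualLib.secToHom_add _ _ _ _ _ _)
  have hΛsmul : ∀ (c : R) x, Λ (c • x) = Λ x ≫ StabLib.smulHom ω (gl (n := n) c) := fun c x =>
    (congrArg _ (DegPullLib.e0_smul _ _ x)).trans (PnDualLib.secToHom_smul _ _ _ _ _ _)
  let θ := Canon.dualityMap R (CohB1.ProjSpace n R) n ω t.toLinearMap L
  let M : Coh.HH (CohB1.ProjSpace n R) N 0 →ₗ[R] (Coh.HH (CohB1.ProjSpace n R) L n →ₗ[R] R) :=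
    { toFun := fun x => θ (Λ x)
      map_add' := fun x y => by
        simp only [θ, Canon.dualityMap, hΛadd, HHlin_add, LinearMap.comp_add]
      map_smul' := fun c x => (congrArg θ (hΛsmul c x)).trans (dualityMap_smulHom n R n _ (Λ x) c) }
  have hM : Function.Surjective M := hsurj.comp hΛ
  obtain ⟨e⟩ := nonempty_HH_zero n R k
  obtain ⟨f⟩ := exists_HH_top (n := n) (R := R) k
  let D : (Coh.HH (CohB1.ProjSpace n R) L n →ₗ[R] R) ≃ₗ[R] (Deg n k →₀ R) :=
    f.symm.dualMap.trans ((Finsupp.lsum R).symm.trans ((LinearEquiv.piCongrRight fun _ =>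
      LinearMap.ringLmapEquivSelf R R R).trans (Finsupp.linearEquivFunOnFinite R R (Deg n k)).symm))
  have hinj : Function.Injective (D.toLinearMap ∘ₗ M ∘ₗ e.symm.toLinearMap) :=
    OrzechProperty.injective_of_surjective_endomorphism _ (D.surjective.comp (hM.comp e.symm.surjective))
  have hMinj : Function.Injective M := fun x y h => e.injective (hinj (by
    change D (M (e.symm (e x))) = D (M (e.symm (e y)))
    rw [e.symm_apply_apply, e.symm_apply_apply, h]))
  intro φ ψ h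
  obtain ⟨x, rfl⟩ := hΛ φ
  obtain ⟨y, rfl⟩ := hΛ ψ
  exact congrArg Λ (hMinj h)

end Groth.Agent.DualPairLib

namespace Groth.Agent.DualPairLib

theorem dim_fiber_toSpec_le (n : ℕ) (R : Type u) [CommRing R] (y : ↥(Spec (CommRingCat.of R))) :
    topologicalKrullDim ↥((CohB1.ProjSpace.toSpec n R).fiber y) ≤ (n : WithBot ℕ∞) := by
  let g := (Spec (CommRingCat.of R)).fromSpecResidueField y
  obtain ⟨q, hq, -⟩ := PicPnLib.exists_map n R
  obtain ⟨q', hq', -⟩ := PicPnLib.exists_map n ((Spec (CommRingCat.of R)).residueField y)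
  let j := hq.lift q' (CohB1.ProjSpace.toSpec n ((Spec (CommRingCat.of R)).residueField y) ≫ g) (by
    rw [hq'.w, Category.assoc]
    exact congrArg _ (specULiftZIsTerminal.hom_ext _ _))
  have h1 : j ≫ q = q' := hq.lift_fst _ _ _
  have h2 : j ≫ CohB1.ProjSpace.toSpec n R = CohB1.ProjSpace.toSpec n ((Spec (CommRingCat.of R)).residueField y) ≫ g :=
    hq.lift_snd _ _ _
  have hj : IsPullback j (CohB1.ProjSpace.toSpec n ((Spec (CommRingCat.of R)).residueField y))
      (CohB1.ProjSpace.toSpec n R) g := by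
    refine IsPullback.of_right ?_ h2 hq
    rw [h1, specULiftZIsTerminal.hom_ext (g ≫ specULiftZIsTerminal.from (Spec (CommRingCat.of R)))
      (specULiftZIsTerminal.from _)]
    exact hq'
  let e : (CohB1.ProjSpace.toSpec n R).fiber y ≅ CohB1.ProjSpace n ((Spec (CommRingCat.of R)).residueField y) :=
    hj.isoPullback.symm
  rw [IsHomeomorph.topologicalKrullDim_eq _ (Scheme.homeoOfIso e).isHomeomorph, GenusZeroLib.dim_projSpace]

theorem exists_dual_projSpace (n : ℕ) (R : Type u) [CommRing R] [IsNoetherianRing R] :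
    ∃ t : Coh.HH (CohB1.ProjSpace n R) (OO n R (-((n : ℤ) + 1))) n ≃ₗ[R] R,
      Canon.IsRDualOver R (CohB1.ProjSpace n R) n (OO n R (-((n : ℤ) + 1))) t.toLinearMap := by
  obtain ⟨t, ht⟩ := exists_trace_bijective n R
  refine ⟨t, isRDualOver_of_twists_le (𝟙 (CohB1.ProjSpace n R)) (Category.id_comp _) n
    (dim_fiber_toSpec_le n R) _ (GrTildeLib.isQCoh_twist _) t.toLinearMap (-((n : ℤ) + 1)) fun m hm => ?_⟩
  let e : OO n R m ≅ pullTwist (𝟙 (CohB1.ProjSpace n R)) m :=
    ((Scheme.Modules.pullbackId (CohB1.ProjSpace n R)).app (OO n R m)).symm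
  have key : Canon.dualityMap R (CohB1.ProjSpace n R) n (OO n R (-((n : ℤ) + 1))) t.toLinearMap (pullTwist (𝟙 _) m) =
      (fun l => l ∘ₗ Canon.HHlin R e.inv n) ∘
        Canon.dualityMap R (CohB1.ProjSpace n R) n (OO n R (-((n : ℤ) + 1))) t.toLinearMap (OO n R m) ∘
        (fun φ => e.hom ≫ φ) := by
    funext φ
    refine LinearMap.ext fun x => congrArg t ?_
    change Sheaf.H.map _ n x = Sheaf.H.map _ n (Sheaf.H.map _ n x)
    rw [← Sheaf.H.map_comp_apply, ← Functor.map_comp, Iso.inv_hom_id_assoc]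
  refine key.symm ▸ Function.Bijective.comp ?_ (Function.Bijective.comp (ht m hm) ?_)
  · refine Function.bijective_iff_has_inverse.2 ⟨fun l => l ∘ₗ Canon.HHlin R e.hom n, fun l => LinearMap.ext fun x => ?_,
      fun l => LinearMap.ext fun x => ?_⟩ <;>
    · refine congrArg l ?_
      change Sheaf.H.map _ n (Sheaf.H.map _ n x) = x
      rw [← Sheaf.H.map_comp_apply, ← Functor.map_comp]
      simp only [Iso.hom_inv_id, Iso.inv_hom_id, CategoryTheory.Functor.map_id, Sheaf.H.map_id_apply]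
  · exact Function.bijective_iff_has_inverse.2 ⟨fun φ => e.inv ≫ φ, fun φ => by simp, fun φ => by simp⟩

end Groth.Agent.DualPairLib
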