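import Groth.Agent.PnCohLib.Twist
import Groth.Agent.CohBCLib.HCmp
import Groth.Agent.EulerPnLib.Deriv
import Groth.Prelude.Def_Canon

/-!
# Top cohomology classes of Laurent monomials on projective space
-/

set_option autoImplicit false
set_option linter.style.haveILetI false
set_option backward.isDefEq.respectTransparency false
set_option backward.isDefEq.respectTransparency.types false
set_option maxHeartbeats 1000000
universe u

open CategoryTheory CategoryTheory.Limits AlgebraicGeometry MvPolynomial Opposite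
open GrTildeLib GradedCechLib PnTildeLib PnCohLib

noncomputable section

namespace Groth.Agent.DualPairLib

section Classes

variable {R : Type u} [CommRing R] {ι : Type} [Fintype ι] [DecidableEq ι] {L L' : Sys R ι}

/-- Maps of systems act on cocycles. -/
def kerMap (φ : L ⟶ L') (p : ℕ) : LinearMap.ker (dd L p) →ₗ[R] LinearMap.ker (dd L' p) :=
  LinearMap.restrict ((cxMap φ).f p).hom fun c hc => by
    rw [LinearMap.mem_ker] at hc ⊢
    refine funext fun J => ?_
    refine (dd_map φ p c J).trans ?_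
    exact (congrArg (φ.app (rng J)).hom (congrFun hc J)).trans (map_zero _)

/-- The inclusion of cocycles. -/
def cycIn (L : Sys R ι) (p : ℕ) : ModuleCat.of R (LinearMap.ker (dd L p)) ⟶ (cx L).X p :=
  ModuleCat.ofHom (LinearMap.ker (dd L p)).subtype

theorem cycIn_d (L : Sys R ι) (p : ℕ) : cycIn L p ≫ (cx L).d p (p + 1) = 0 :=
  ModuleCat.hom_ext (LinearMap.ext fun c => (cx_d p c.1).trans c.2)

/-- The class of a cocycle. -/
def cls (L : Sys R ι) (p : ℕ) : LinearMap.ker (dd L p) →ₗ[R] H L p :=
  ((cx L).liftCycles (cycIn L p) (p + 1) (by simp) (cycIn_d L p) ≫ (cx L).homologyπ p).hom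

theorem cls_natural (φ : L ⟶ L') (p : ℕ) (c : LinearMap.ker (dd L p)) :
    (HomologicalComplex.homologyMap (cxMap φ) p).hom (cls L p c) = cls L' p (kerMap φ p c) := by
  have h : ((cx L).liftCycles (cycIn L p) (p + 1) (by simp) (cycIn_d L p) ≫ (cx L).homologyπ p) ≫
      HomologicalComplex.homologyMap (cxMap φ) p = ModuleCat.ofHom (kerMap φ p) ≫
      ((cx L').liftCycles (cycIn L' p) (p + 1) (by simp) (cycIn_d L' p) ≫ (cx L').homologyπ p) := by
    rw [Category.assoc, HomologicalComplex.homologyπ_naturality, HomologicalComplex.liftCycles_comp_cyclesMap_assoc,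
      ← Category.assoc, HomologicalComplex.comp_liftCycles]
    rfl
  exact ConcreteCategory.congr_hom h c

/-- A functional on cochains killing coboundaries descends. -/
theorem exists_desc (L : Sys R ι) (p : ℕ) {V : Type u} [AddCommGroup V] [Module R V] (f : Cochain L p →ₗ[R] V)
    (hf : ∀ c : Cochain L p, c ∈ LinearMap.range ((cx L).d ((ComplexShape.up ℕ).prev p) p).hom → f c = 0) :
    ∃ T : H L p →ₗ[R] V, ∀ c, T (cls L p c) = f c.1 := by
  have hf' : (cx L).d ((ComplexShape.up ℕ).prev p) p ≫ (ModuleCat.ofHom f : (cx L).X p ⟶ ModuleCat.of R V) = 0 :=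
    ModuleCat.hom_ext (LinearMap.ext fun b => hf _ ⟨b, rfl⟩)
  refine ⟨((cx L).homologyι p ≫ (cx L).descOpcycles (ModuleCat.ofHom f) _ rfl hf').hom, fun c => ?_⟩
  have h : ((cx L).liftCycles (cycIn L p) (p + 1) (by simp) (cycIn_d L p) ≫ (cx L).homologyπ p) ≫
      ((cx L).homologyι p ≫ (cx L).descOpcycles (ModuleCat.ofHom f) _ rfl hf') = cycIn L p ≫ ModuleCat.ofHom f := by
    simp
  exact ConcreteCategory.congr_hom h c

end Classes

variable (n : ℕ) (R : Type u) [CommRing R]

/-- The fractions of degree `a`. -/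
abbrev LP (a : ℤ) : Sys R (Fin (n + 1)) := locSys (posGrading (n := n) (CohB1.polyGrading n R)) a

/-- Fractions as Laurent monomials. -/
def lauMap (a : ℤ) : LP n R a ⟶ LS R n a := sysMap _ _ (vec1 (n := n) (R := R)) vec1_isHom a ≫ freeIso (Fin 1) (fun _ => (0 : ℤ)) a

theorem lauMap_bijective (a : ℤ) (s : Finset (Fin (n + 1))) : Function.Bijective ((lauMap n R a).app s).hom :=
  (freeIso_app_bijective (R := R) (Fin 1) (fun _ => (0 : ℤ)) a s).comp (vec1_bijective a s)

theorem exists_cocycle (a : ℤ) (f : BS n a →₀ R) :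
    ∃ c : LinearMap.ker (dd (LP n R a) n), ((cxMap (lauMap n R a)).f n).hom c.1 = topC R n a f := by
  choose c hc using fun J : Fin (n + 1) → Fin (n + 1) => (lauMap_bijective n R a (rng J)).2 (topC R n a f J)
  refine ⟨⟨c, LinearMap.mem_ker.2 (funext fun J => (lauMap_bijective n R a (rng J)).1 ?_)⟩, funext hc⟩
  rw [← dd_map (lauMap n R a) n c J, funext hc, dd_topC, Pi.zero_apply, Pi.zero_apply, map_zero]

theorem finite_BS (k : ℕ) : Finite (BS n (-((n : ℤ) + 1 + k))) := by
  haveI : Finite (Deg n k) := Nat.finite_of_card_ne_zero (by rw [card_deg]; exact (Nat.choose_pos (by omega)).ne')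
  exact Finite.of_equiv _ (bsEquiv k)

/-- The coordinates on top cohomology. -/
theorem exists_top (k : ℕ) : ∃ T : H (LP n R (-((n : ℤ) + 1 + k))) n ≃ₗ[R] (BS n (-((n : ℤ) + 1 + k)) →₀ R),
    ∀ c, T (cls _ n c) = topVal R n _ (((cxMap (lauMap n R _)).f n).hom c.1) := by
  set a := -((n : ℤ) + 1 + k) with ha
  haveI : Finite (BS n a) := finite_BS n k
  obtain ⟨T', hT'⟩ := exists_desc (LS R n a) n (topVal R n a) fun c hc => topVal_eq_zero_of_range hc
  let T := T'.comp (HomologicalComplex.homologyMap (cxMap (lauMap n R a)) n).hom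
  have hT : ∀ c, T (cls _ n c) = topVal R n a (((cxMap (lauMap n R a)).f n).hom c.1) := fun c => by
    change T' _ = _
    rw [cls_natural, hT']
    rfl
  have hsurj : Function.Surjective T := fun f => by
    obtain ⟨c, hc⟩ := exists_cocycle n R a f
    exact ⟨cls _ n c, by rw [hT, hc]; exact topVal_topC f⟩
  obtain ⟨e⟩ : Nonempty (H (LP n R a) n ≃ₗ[R] (BS n a →₀ R)) := by
    obtain ⟨f⟩ := exists_H_top (R := R) (n := n) (d := a) (fun _ => by omega)
    exact ⟨(hIsoOfBijective (lauMap n R a) (fun s _ => lauMap_bijective n R a s) n).toLinearEquiv.trans f⟩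
  have hinj : Function.Injective (T.comp e.symm.toLinearMap) :=
    OrzechProperty.injective_of_surjective_endomorphism _ (hsurj.comp e.symm.surjective)
  refine ⟨LinearEquiv.ofBijective T ⟨fun x y h => ?_, hsurj⟩, hT⟩
  exact e.injective (hinj (by simpa using h))

/-- The comparison with cohomology. -/
def sysEquiv (M : (CohB1.ProjSpace n R).Modules) [Coh.IsQCoh M] (p : ℕ) :
    H (secSys M) p ≃+ Coh.HH (CohB1.ProjSpace n R) M p :=
  (hCompare M p).addCommGroupIsoToAddEquiv.trans
    ((CohBCLib.cechCmp (X := (CohB1.ProjSpace n R).toTopCat) (stdCover n R) p (Coh.toAb M) (acyc_stdCover M)).trans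
      ((CohBCLib.huTop (stdCover n R) (by
        rw [eq_top_iff, ← QCohLib.iSup_stdOpen n R]
        exact iSup_le fun i => le_iSup (stdCover n R) ⟨i⟩) (Coh.toAb M) p).trans (QCohLib.hEquiv (Coh.toAb M) p).symm))

theorem cxCompare_natural {M N : (CohB1.ProjSpace n R).Modules} (φ : M ⟶ N) :
    forgetCx.map (cxMap (secMap φ)) ≫ (cxCompare N).hom =
      (cxCompare M).hom ≫ (cechComplexFunctor (stdCover n R)).map ((QCohLib.toAbF _).map φ).hom := by
  ext p : 1
  refine ConcreteCategory.hom_ext _ _ fun c => ?_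
  apply (CechLib.cochainEquiv (stdCover n R) (Coh.toAb N).obj p).injective
  refine (cochainEquiv_cxCompareX N p _).trans ?_
  funext J
  refine Eq.trans ?_ (CechLib.cochainEquiv_map (stdCover n R) ((QCohLib.toAbF _).map φ).hom p _ J).symm
  refine Eq.trans ?_ (congrArg (((QCohLib.toAbF _).map φ).hom.app (op (CechLib.cap (stdCover n R) J)))
    (congrFun (cochainEquiv_cxCompareX M p c) J).symm)
  exact (ConcreteCategory.congr_hom (φ.mapPresheaf.naturality (homOfLE (cap_eq_Uof J).le).op) _).symm

theorem hCompare_natural {M N : (CohB1.ProjSpace n R).Modules} (φ : M ⟶ N) (p : ℕ) (x : H (secSys M) p) :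
    (hCompare N p).hom ((HomologicalComplex.homologyMap (cxMap (secMap φ)) p).hom x) =
      hMap (stdCover n R) ((QCohLib.toAbF _).map φ) p ((hCompare M p).hom x) := by
  have h1 : (forget₂ (ModuleCat.{u} R) AddCommGrpCat.{u}).map (HomologicalComplex.homologyMap (cxMap (secMap φ)) p) ≫
      (hCompare N p).hom = (hCompare M p).hom ≫ hMap (stdCover n R) ((QCohLib.toAbF _).map φ) p := by
    refine (Category.assoc _ _ _).symm.trans (((congrArg (· ≫ HomologicalComplex.homologyMap (cxCompare N).hom p)
      (map_homologyMap_comp_inv ((HomologicalComplex.shortComplexFunctor _ _ p).map (cxMap (secMap φ))))).trans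
        (Category.assoc _ _ _)).trans ?_)
    refine Eq.trans (congrArg (_ ≫ ·) ?_) (Category.assoc _ _ _).symm
    exact (HomologicalComplex.homologyMap_comp (forgetCx.map (cxMap (secMap φ))) (cxCompare N).hom p).symm.trans
      ((congrArg (fun ψ => HomologicalComplex.homologyMap ψ p) (cxCompare_natural n R φ)).trans
        (HomologicalComplex.homologyMap_comp _ _ p))
  exact ConcreteCategory.congr_hom h1 x

theorem sysEquiv_natural {M N : (CohB1.ProjSpace n R).Modules} [Coh.IsQCoh M] [Coh.IsQCoh N] (φ : M ⟶ N) (p : ℕ)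
    (x : H (secSys M) p) :
    sysEquiv n R N p ((HomologicalComplex.homologyMap (cxMap (secMap φ)) p).hom x) =
      Canon.HHlin R φ p (sysEquiv n R M p x) := by
  change (QCohLib.hEquiv _ p).symm (CohBCLib.huTop _ _ _ p (CohBCLib.cechCmp _ p _ _ ((hCompare N p).hom _))) = _
  rw [hCompare_natural]
  exact CohBCLib.hCmp_aux _ _ p (acyc_stdCover M) (acyc_stdCover N) ((QCohLib.toAbF _).map φ) _

theorem sysEquiv_smul (M : (CohB1.ProjSpace n R).Modules) [Coh.IsQCoh M] (p : ℕ) (r : R) (x : H (secSys M) p) :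
    sysEquiv n R M p (r • x) = r • sysEquiv n R M p x := by
  change (QCohLib.hEquiv _ p).symm (CohBCLib.huTop _ _ _ p (CohBCLib.cechCmp _ p _ _ ((hCompare M p).hom _))) = _
  rw [hCompare_smul]
  exact CohBCLib.hCmp_aux _ _ p (acyc_stdCover M) (acyc_stdCover M) (Coh.smulAb M (gl r)) _

end Groth.Agent.DualPairLib
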