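import Groth.Agent.DualPairLib.TopClass

/-!
# The trace pairing on the twists of projective space is surjective
-/

set_option autoImplicit false
set_option linter.style.haveILetI false
set_option backward.isDefEq.respectTransparency false
set_option backward.isDefEq.respectTransparency.types false
set_option maxHeartbeats 1000000
universe u

open CategoryTheory CategoryTheory.Limits AlgebraicGeometry MvPolynomial Opposite
open GrTildeLib GradedCechLib PnTildeLib PnCohLib

noncomputable section

attribute [local instance] GradedCechLib.lauAlg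

namespace Groth.Agent.DualPairLib

variable (n : ℕ) (R : Type u) [CommRing R]

/-- The twist as a module on projective space. -/
abbrev OO (a : ℤ) : (CohB1.ProjSpace n R).Modules := Twist.twistProjSpace n R a

/-- Fractions as sections of the twist. -/
def secIn (a : ℤ) : LP n R a ⟶ secSys (OO n R a) :=
  toSys (CohB1.polyGrading n R) a ≫ secMap (show tl (n := n) (CohB1.polyGrading n R) a ⟶ OO n R a from
    (twistIsoTilde (CohB1.polyGrading n R) a).inv)

theorem secIn_bijective (a : ℤ) (s : Finset (Fin (n + 1))) (hs : s.Nonempty) :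
    Function.Bijective ((secIn n R a).app s).hom := by
  haveI : IsIso (show tl (n := n) (CohB1.polyGrading n R) a ⟶ OO n R a from
      (twistIsoTilde (CohB1.polyGrading n R) a).inv) :=
    inferInstanceAs (IsIso (twistIsoTilde (CohB1.polyGrading n R) a).inv)
  exact (secMap_bijective _ s).comp (toSys_bijective (CohB1.polyGrading n R) a s hs)

variable {n R}

theorem mul_mem_piece {k : ℕ} {g : Poly n R} (hg : g ∈ CohB1.polyGrading n R k) {d d' : ℤ} (hd : d + k = d')
    {y : Poly n R} (hy : y ∈ (posGrading (n := n) (CohB1.polyGrading n R)).piece d) :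
    g • y ∈ (posGrading (n := n) (CohB1.polyGrading n R)).piece d' := by
  rcases mem_posGrading (n := n) (CohB1.polyGrading n R) hy with ⟨hy, hd0⟩ | hy
  · rw [← Int.toNat_of_nonneg (show 0 ≤ d' by omega), posGrading_piece_natCast,
      show d'.toNat = k + d.toNat by omega]
    exact SetLike.mul_mem_graded hg hy
  · rw [hy, smul_zero]
    exact zero_mem _

/-- Multiplication by a form on fractions. -/
def mulLoc {k : ℕ} (g : CohB1.polyGrading n R k) {a b : ℤ} (hb : a + k = b) : LP n R a ⟶ LP n R b where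
  app s := show ModuleCat.of R (locPiece _ a s) ⟶ ModuleCat.of R (locPiece _ b s) from
    ModuleCat.ofHom
      { toFun := fun z => ⟨(g : Poly n R) • (z : Loc R (Poly n R) s), by
          obtain ⟨m, y, hy, hz⟩ := z.2
          refine ⟨m, (g : Poly n R) • y, mul_mem_piece g.2 (by omega) hy, ?_⟩
          rw [hz]
          exact LocalizedModule.smul'_mk _ _ _⟩
        map_add' := fun z z' => Subtype.ext (smul_add _ _ _)
        map_smul' := fun r z => Subtype.ext (smul_comm _ _ _) }
  naturality {s t} f := ModuleCat.hom_ext (LinearMap.ext fun (z : locPiece _ a s) => Subtype.ext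
    (map_smul (transLin (leOfHom f)) (g : Poly n R) (z : Loc R (Poly n R) s)).symm)

theorem val_twistIsoTilde_inv (a : ℤ) {V : (Proj (CohB1.polyGrading n R)).Opens}
    (t : Γ(GrTilde.tilde (CohB1.polyGrading n R) (CohB1.polyGrading n R) a, V)) (x : V) :
    TwistLib.val ((twistIsoTilde (CohB1.polyGrading n R) a).inv.app V t) x = GrTildeLib.val t x := by
  have h : (twistIsoTilde (CohB1.polyGrading n R) a).hom.app V
      ((twistIsoTilde (CohB1.polyGrading n R) a).inv.app V t) = t :=
    congrArg (fun φ : GrTilde.tilde (CohB1.polyGrading n R) (CohB1.polyGrading n R) a ⟶ GrTilde.tilde (CohB1.polyGrading n R) (CohB1.polyGrading n R) a => φ.app V t) (twistIsoTilde (CohB1.polyGrading n R) a).inv_hom_id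
  exact congrArg (fun u => GrTildeLib.val u x) h

theorem secIn_mulLoc {k : ℕ} (g : CohB1.polyGrading n R k) {a b : ℤ} (hb : a + k = b) :
    mulLoc g hb ≫ secIn n R b = secIn n R a ≫ secMap (EulerPnLib.mulHomX g hb) := by
  refine NatTrans.ext (funext fun s => ModuleCat.hom_ext (LinearMap.ext fun (z : locPiece _ a s) =>
    (toS (OO n R b)).injective ?_))
  refine TwistLib.sec_ext (V := (Uof s : (Proj (CohB1.polyGrading n R)).Opens)) fun x => ?_
  refine (val_twistIsoTilde_inv b _ x).trans ?_
  refine Eq.trans ?_ (congrArg (algebraMap (Poly n R) (Twist.Loc (CohB1.polyGrading n R) x.1) (g : Poly n R) * ·)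
    (val_twistIsoTilde_inv a _ x).symm)
  exact (map_smul (valLin s x) _ _).trans (Algebra.smul_def _ _)

/-- The Laurent expansion of a fraction. -/
def lauOf (s : Finset (Fin (n + 1))) (z : Loc R (Poly n R) s) : Fin 1 → Lau R (Fin (n + 1)) :=
  toLauVec (Fin 1) s (locMap vec1 s z)

theorem lauOf_smul (s : Finset (Fin (n + 1))) (g : Poly n R) (z : Loc R (Poly n R) s) :
    lauOf s (g • z) 0 = toLau R (Fin (n + 1)) g * lauOf s z 0 := by
  rw [lauOf, map_smul, map_smul]
  rfl

theorem evS_lauMap (a : ℤ) (c : Cochain (LP n R a) n) (J : Fin (n + 1) → Fin (n + 1)) (e : Fin (n + 1) → ℤ) :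
    evS (AS n a) (allowed_mono (Fin 1) (fun _ => (0 : ℤ)) a) (rng J) (((cxMap (lauMap n R a)).f n).hom c J) (0, e) =
      (lauOf (rng J) (c J : locPiece _ a (rng J)).1 0).coeff e := rfl

/-- The exponent `(-1, …, -1)`. -/
def negOne : BS n (-((n : ℤ) + 1)) := ⟨(0, fun _ => -1), by simp, fun i => by norm_num⟩

theorem coeff_toLau_mul_single (g : Poly n R) (e : Fin (n + 1) → ℤ) (m : Fin (n + 1) →₀ ℕ)
    (hm : ∀ i, (m i : ℤ) + e i = -1) :
    (toLau R (Fin (n + 1)) g * AddMonoidAlgebra.single e 1).coeff (fun _ => -1) = g.coeff m := by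
  rw [AddMonoidAlgebra.coeff_mul_single_apply, mul_one, coeff_toLau]
  rw [show (fun _ => (-1 : ℤ)) + -e = expHom (Fin (n + 1)) m from funext fun i => by
    have := hm i
    simp [expHom]
    omega]
  exact Finsupp.mapDomain_apply expHom_injective _ _

variable (n R) in
/-- The class of a cocycle of fractions. -/
def clsHH (a : ℤ) (c : LinearMap.ker (dd (LP n R a) n)) : Coh.HH (CohB1.ProjSpace n R) (OO n R a) n :=
  haveI : Coh.IsQCoh (OO n R a) := GrTildeLib.isQCoh_twist a
  sysEquiv n R (OO n R a) n ((HomologicalComplex.homologyMap (cxMap (secIn n R a)) n).hom (cls _ n c))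

theorem clsHH_mul {k : ℕ} (g : CohB1.polyGrading n R k) {a b : ℤ} (hb : a + k = b) (c : LinearMap.ker (dd (LP n R a) n)) :
    Canon.HHlin R (show OO n R a ⟶ OO n R b from EulerPnLib.mulHomX g hb) n (clsHH n R a c) =
      clsHH n R b (kerMap (mulLoc g hb) n c) := by
  haveI : Coh.IsQCoh (OO n R a) := GrTildeLib.isQCoh_twist a
  haveI : Coh.IsQCoh (OO n R b) := GrTildeLib.isQCoh_twist b
  refine (sysEquiv_natural n R _ n _).symm.trans (congrArg (sysEquiv n R (OO n R b) n) ?_)
  rw [← cls_natural]
  have h : cxMap (secIn n R a) ≫ cxMap (secMap (show OO n R a ⟶ OO n R b from EulerPnLib.mulHomX g hb)) =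
      cxMap (mulLoc g hb) ≫ cxMap (secIn n R b) := by
    refine HomologicalComplex.hom_ext _ _ fun p => ModuleCat.hom_ext (LinearMap.ext fun c' => funext fun J => ?_)
    exact (ConcreteCategory.congr_hom (NatTrans.congr_app (secIn_mulLoc g hb) (rng J)) _).symm
  have h2 := congrArg (fun φ => HomologicalComplex.homologyMap φ n) h
  simp only [HomologicalComplex.homologyMap_comp] at h2
  exact ConcreteCategory.congr_hom h2 _

variable (n R) in
/-- Coordinates on the top cohomology of a twist. -/
theorem exists_coord (a : ℤ) (ha : a ≤ -((n : ℤ) + 1)) :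
    ∃ T : Coh.HH (CohB1.ProjSpace n R) (OO n R a) n ≃ₗ[R] (BS n a →₀ R),
      ∀ c, T (clsHH n R a c) = topVal R n a (((cxMap (lauMap n R a)).f n).hom c.1) := by
  obtain ⟨k, rfl⟩ : ∃ k : ℕ, a = -((n : ℤ) + 1 + k) := ⟨(-a - (n + 1)).toNat, by omega⟩
  haveI : Coh.IsQCoh (OO n R (-((n : ℤ) + 1 + k))) := GrTildeLib.isQCoh_twist _
  obtain ⟨T, hT⟩ := exists_top n R k
  let e₁ : H (LP n R (-((n : ℤ) + 1 + k))) n ≃ₗ[R] H (secSys (OO n R (-((n : ℤ) + 1 + k)))) n :=
    (hIsoOfBijective (secIn n R _) (secIn_bijective n R _) n).toLinearEquiv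
  let e₂ : H (secSys (OO n R (-((n : ℤ) + 1 + k)))) n ≃ₗ[R]
      Coh.HH (CohB1.ProjSpace n R) (OO n R (-((n : ℤ) + 1 + k))) n :=
    { sysEquiv n R _ n with map_smul' := sysEquiv_smul n R _ n }
  refine ⟨(e₁.trans e₂).symm.trans T, fun c => ?_⟩
  rw [← hT c, LinearEquiv.trans_apply]
  exact congrArg T ((LinearEquiv.symm_apply_eq _).2 rfl)

theorem subsingleton_BS : Subsingleton (BS n (-((n : ℤ) + 1))) := by
  refine ⟨fun x y => ?_⟩
  have hx : ∀ z : BS n (-((n : ℤ) + 1)), z = negOne := fun z => by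
    have h1 := sum_eq_of_mem_BS z.2
    have h2 : ∑ i, (-1 - z.1.2 i) = 0 := by
      rw [Finset.sum_sub_distrib, h1]
      simp
    have h3 := (Finset.sum_eq_zero_iff_of_nonneg fun i _ => by have := z.2.2 i; omega).1 h2
    exact Subtype.ext (Prod.ext (Subsingleton.elim _ _) (funext fun i => by
      have := h3 i (Finset.mem_univ i)
      show z.1.2 i = -1
      omega))
  rw [hx x, hx y]

variable (n R) in
/-- A trace, with its values on multiples of monomial classes, and the resulting surjectivity. -/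
theorem exists_trace_surjective : ∃ t : Coh.HH (CohB1.ProjSpace n R) (OO n R (-((n : ℤ) + 1))) n ≃ₗ[R] R,
    ∀ a : ℤ, a ≤ -((n : ℤ) + 1) → ∀ ψ : Coh.HH (CohB1.ProjSpace n R) (OO n R a) n →ₗ[R] R,
      ∃ φ : OO n R a ⟶ OO n R (-((n : ℤ) + 1)), t.toLinearMap ∘ₗ Canon.HHlin R φ n = ψ := by
  classical
  haveI := subsingleton_BS (n := n)
  obtain ⟨Tω, hTω⟩ := exists_coord n R (-((n : ℤ) + 1)) le_rfl
  refine ⟨Tω.trans (Finsupp.uniqueLinearEquiv R R (negOne (n := n))), fun a ha ψ => ?_⟩
  obtain ⟨k, rfl⟩ : ∃ k : ℕ, a = -((n : ℤ) + 1 + k) := ⟨(-a - (n + 1)).toNat, by omega⟩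
  haveI : Finite (BS n (-((n : ℤ) + 1 + k))) := finite_BS n k
  haveI : Fintype (BS n (-((n : ℤ) + 1 + k))) := Fintype.ofFinite _
  obtain ⟨T, hT⟩ := exists_coord n R (-((n : ℤ) + 1 + k)) (by omega)
  choose c hc using fun e : BS n (-((n : ℤ) + 1 + k)) => exists_cocycle n R _ (Finsupp.single e 1)
  have hTc : ∀ e, T (clsHH n R _ (c e)) = Finsupp.single e 1 := fun e => by rw [hT, hc, topVal_topC]
  let mon := fun e : BS n (-((n : ℤ) + 1 + k)) => ((bsEquiv k).symm e).1
  let g : CohB1.polyGrading n R k := ⟨∑ e, monomial (mon e) (ψ (clsHH n R _ (c e))),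
    sum_mem fun e _ => (MvPolynomial.isHomogeneous_monomial _ ((bsEquiv (n := n) k).symm e).2)⟩
  refine ⟨EulerPnLib.mulHomX g (show -((n : ℤ) + 1 + k) + k = -((n : ℤ) + 1) by ring), ?_⟩
  have key : ∀ e, ((Tω.trans (Finsupp.uniqueLinearEquiv R R (negOne (n := n)))).toLinearMap ∘ₗ
      Canon.HHlin R (show OO n R (-((n : ℤ) + 1 + k)) ⟶ OO n R (-((n : ℤ) + 1)) from
        EulerPnLib.mulHomX g (by ring)) n) (clsHH n R _ (c e)) = ψ (clsHH n R _ (c e)) := fun e => by
    rw [LinearMap.comp_apply, clsHH_mul, LinearEquiv.coe_coe, LinearEquiv.trans_apply, hTω]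
    refine (Finsupp.uniqueLinearEquiv_apply _ _ _ _).trans ?_
    rw [topVal_apply]
    refine (evS_lauMap _ _ _ _).trans ?_
    change (lauOf _ ((g : Poly n R) • _) 0).coeff _ = _
    rw [lauOf_smul]
    have hL : lauOf (rng (id : Fin (n + 1) → Fin (n + 1))) ((c e).1 id : locPiece _ _ (rng id)).1 0 =
        AddMonoidAlgebra.single e.1.2 (1 : R) := by
      ext d
      rw [← evS_lauMap]
      rw [hc e]
      refine (congrArg (fun f : Exps n →₀ R => f (0, d)) (val_topC _ id)).trans ?_
      rw [eps_id, one_smul, Finsupp.mapDomain_single, AddMonoidAlgebra.coeff_single, Finsupp.single_apply,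
        Finsupp.single_apply]
      congr 1
      exact propext ⟨fun h => congrArg Prod.snd h, fun h => Prod.ext (Subsingleton.elim _ _) h⟩
    refine (congrArg (fun L : Lau R (Fin (n + 1)) => (toLau R (Fin (n + 1)) (g : Poly n R) * L).coeff (fun _ => -1)) hL).trans ?_
    refine (coeff_toLau_mul_single _ _ (mon e) fun i => ?_).trans ?_
    · have := congrArg (fun z : BS n (-((n : ℤ) + 1 + k)) => z.1.2 i) ((bsEquiv k).apply_symm_apply e)
      change -1 - ((mon e) i : ℤ) = e.1.2 i at this
      omega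
    · change MvPolynomial.coeff (mon e) (∑ e', monomial (mon e') (ψ (clsHH n R _ (c e')))) = _
      rw [MvPolynomial.coeff_sum, Finset.sum_eq_single e]
      · rw [coeff_monomial, if_pos rfl]
      · intro e' _ hne
        rw [coeff_monomial, if_neg fun h => hne ((bsEquiv k).symm.injective (Subtype.ext h))]
      · exact fun h => absurd (Finset.mem_univ e) h
  refine LinearMap.ext fun x => ?_
  have hx : x = (T x).sum fun e r => r • clsHH n R _ (c e) := by
    apply T.injective
    rw [map_finsuppSum]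
    simp only [map_smul, hTc, Finsupp.smul_single, smul_eq_mul, mul_one]
    exact (Finsupp.sum_single _).symm
  rw [hx, map_finsuppSum, map_finsuppSum]
  simp only [map_smul]
  exact Finsupp.sum_congr fun e _ => congrArg _ (key e)

end Groth.Agent.DualPairLib
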